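import Cfsg.Prelude.Def_Local
import Cfsg.Prelude.Def_Transfer
import Cfsg.Agent.H82.SylowIn
import Cfsg.Agent.H65.BaerSuzuki
import Mathlib.GroupTheory.Sylow
import Mathlib.GroupTheory.Perm.Cycle.Type

/-!
Strong closure of an elementary abelian 2-subgroup `A` in its normaliser `H`, when `H` contains the
centralisers of its elements of order three and every involution outside `A` either commutes with
such an element or belongs to one class `Bad` with two companions in `A` (helper28).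
-/

set_option autoImplicit false
set_option maxHeartbeats 200000
set_option linter.style.haveILetI false
set_option linter.unusedSectionVars false

open Subgroup

namespace H28.U6M

/-- `h` commutes with an element of order three of `H`. -/
def HasThree {X : Type*} [Group X] (H : Subgroup X) (h : X) : Prop :=
  ∃ u ∈ H, orderOf u = 3 ∧ u * h = h * u

namespace Closure

variable {X : Type*} [Group X] [Finite X] {A H : Subgroup X}

/-- A conjugate in `H` of an element of `A` lies in `A` and is conjugate inside `H` if both commute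
with elements of order three. -/
theorem conj_in (hH : H = normalizer (A : Set X))
    (hemb : ∀ e ∈ H, orderOf e = 3 → ∀ x : X, x * e * x⁻¹ ∈ H → x ∈ H)
    {a x : X} (ha : a ∈ A) (he : HasThree H a) (hh : HasThree H (x * a * x⁻¹)) :
    x * a * x⁻¹ ∈ A ∧ ∃ z ∈ H, z * a * z⁻¹ = x * a * x⁻¹ := by
  haveI : Fact (Nat.Prime 3) := ⟨Nat.prime_three⟩
  obtain ⟨e, heH, he3, hea⟩ := he
  obtain ⟨u, huH, hu3, hua⟩ := hh
  set C := centralizer ({a} : Set X) with hC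
  have heC : e ∈ C := mem_centralizer_singleton_iff.2 hea
  have hpow : ∀ {g : X}, orderOf g = 3 → IsPGroup 3 (zpowers g) := fun {g} hg =>
    IsPGroup.of_card (n := 1) (by rw [Nat.card_zpowers, hg, pow_one])
  obtain ⟨S, hS, heS⟩ := H82.exists_sylowIn_ge (hpow he3) (zpowers_le.2 heC)
  -- the Sylow subgroup through `e` lies in `H`
  have heS' : e ∈ S := heS (mem_zpowers e)
  haveI : Nontrivial S := ⟨⟨⟨e, heS'⟩, 1, fun h => by
    have h1 : e = 1 := congrArg Subtype.val h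
    rw [h1, orderOf_one] at he3
    omega⟩⟩
  haveI := hS.isPGroup.center_nontrivial
  obtain ⟨k, hk⟩ := IsPGroup.iff_card.1 (hS.isPGroup.to_subgroup (center S))
  have hk0 : k ≠ 0 := by
    intro h
    rw [h, pow_zero] at hk
    have := Finite.one_lt_card (α := center S)
    omega
  obtain ⟨z, hz⟩ := exists_prime_orderOf_dvd_card' 3 (hk ▸ dvd_pow_self 3 hk0)
  have hz3 : orderOf ((z : S) : X) = 3 := by rw [orderOf_coe, orderOf_coe, hz]
  have hzc : ∀ s ∈ S, s * ((z : S) : X) = ((z : S) : X) * s := fun s hs =>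
    congrArg Subtype.val (mem_center_iff.1 z.2 ⟨s, hs⟩)
  have hzH : ((z : S) : X) ∈ H := by
    refine hemb e heH he3 _ ?_
    rw [← hzc e heS', mul_inv_cancel_right]
    exact heH
  have hSH : S ≤ H := fun s hs => hemb _ hzH hz3 s (by
    rw [hzc s hs, mul_inv_cancel_right]
    exact hzH)
  -- move `x⁻¹ u x` into it
  have hu' : x⁻¹ * u * x ∈ C := by
    refine mem_centralizer_singleton_iff.2 ?_
    calc x⁻¹ * u * x * a = x⁻¹ * (u * (x * a * x⁻¹)) * x := by group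
      _ = x⁻¹ * (x * a * x⁻¹ * u) * x := by rw [hua]
      _ = a * (x⁻¹ * u * x) := by group
  have hu'3 : orderOf (x⁻¹ * u * x) = 3 := by
    rw [← hu3]
    simpa using orderOf_injective (MulAut.conj x⁻¹).toMonoidHom (MulAut.conj x⁻¹).injective u
  obtain ⟨c, hc, hcS⟩ := hS.exists_conj_le (hpow hu'3) (zpowers_le.2 hu')
  have hc' : c * (x⁻¹ * u * x) * c⁻¹ ∈ S :=
    hcS ⟨_, mem_zpowers _, by simp [mul_assoc]⟩
  have hw : (c * x⁻¹) * u * (c * x⁻¹)⁻¹ ∈ H := by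
    rw [show (c * x⁻¹) * u * (c * x⁻¹)⁻¹ = c * (x⁻¹ * u * x) * c⁻¹ by group]
    exact hSH hc'
  have hxc : x * c⁻¹ ∈ H := by
    have := inv_mem (hemb u huH hu3 _ hw)
    rwa [mul_inv_rev, inv_inv] at this
  have hca : c⁻¹ * a * c = a := by
    rw [mul_assoc, ← mem_centralizer_singleton_iff.1 hc, inv_mul_cancel_left]
  have heq : (x * c⁻¹) * a * (x * c⁻¹)⁻¹ = x * a * x⁻¹ := by
    rw [show (x * c⁻¹) * a * (x * c⁻¹)⁻¹ = x * (c⁻¹ * a * c) * x⁻¹ by group, hca]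
  refine ⟨?_, _, hxc, heq⟩
  rw [← heq]
  exact (mem_normalizer_iff.1 (hH ▸ hxc) a).1 ha

end Closure

open Closure in
theorem strong_closure {X : Type*} [Group X] [Finite X] (A H : Subgroup X)
    (hA : Cfsg.IsElementaryAbelian 2 A) (hH : H = Subgroup.normalizer (A : Set X))
    (hemb : ∀ e ∈ H, orderOf e = 3 → ∀ x : X, x * e * x⁻¹ ∈ H → x ∈ H)
    (hgood : ∀ a ∈ A, HasThree H a)
    (Bad : X → Prop)
    (hinv : ∀ h ∈ H, h ∉ A → h * h = 1 → HasThree H h ∨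
      (Bad h ∧ ∃ a0 ∈ A, ∃ a1 ∈ A, a0 * h = h * a0 ∧ a1 * h = h * a1 ∧
        HasThree H (h * a0) ∧ HasThree H (h * a1) ∧ ∀ z ∈ H, z * a0 * z⁻¹ ≠ a1))
    (hbad : ∀ h h', Bad h → Bad h' → ∃ z : X, z * h * z⁻¹ = h') :
    ∀ a ∈ A, ∀ x : X, x * a * x⁻¹ ∈ H → x * a * x⁻¹ ∈ A := by
  haveI : Fact (Nat.Prime 2) := ⟨Nat.prime_two⟩
  have hAH : A ≤ H := hH ▸ le_normalizer
  have hsq : ∀ a ∈ A, a * a = 1 := fun a ha => by rw [← sq]; exact hA.2 a ha
  have hcomm : ∀ a ∈ A, ∀ b ∈ A, a * b = b * a := fun a ha b hb => by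
    haveI := hA.1
    exact congrArg Subtype.val (mul_comm' (⟨a, ha⟩ : A) ⟨b, hb⟩)
  -- (F1): no conjugate of an element of `A` in `H ∖ A` commutes with an element of order three
  have F1 : ∀ a ∈ A, ∀ x : X, HasThree H (x * a * x⁻¹) → x * a * x⁻¹ ∈ A := fun a ha x hh =>
    (conj_in hH hemb ha (hgood a ha) hh).1
  -- (F2): fusion in `A` is controlled by `H`
  have F2 : ∀ a ∈ A, ∀ x : X, x * a * x⁻¹ ∈ A → ∃ z ∈ H, z * a * z⁻¹ = x * a * x⁻¹ :=
    fun a ha x hx => (conj_in hH hemb ha (hgood a ha) (hgood _ hx)).2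
  have F3 : ∀ a ∈ A, ∀ x : X, x * a * x⁻¹ ∈ H → x * a * x⁻¹ ∉ A →
      Bad (x * a * x⁻¹) ∧ ∃ a0 ∈ A, ∃ a1 ∈ A,
        a0 * (x * a * x⁻¹) = (x * a * x⁻¹) * a0 ∧ a1 * (x * a * x⁻¹) = (x * a * x⁻¹) * a1 ∧
        HasThree H (x * a * x⁻¹ * a0) ∧ HasThree H (x * a * x⁻¹ * a1) ∧
        ∀ z ∈ H, z * a0 * z⁻¹ ≠ a1 := by
    intro a ha x hxH hxA
    have h2 : (x * a * x⁻¹) * (x * a * x⁻¹) = 1 := by
      rw [show (x * a * x⁻¹) * (x * a * x⁻¹) = x * (a * a) * x⁻¹ by group, hsq a ha]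
      group
    rcases hinv _ hxH hxA h2 with h | h
    · exact absurd (F1 a ha x h) hxA
    · exact h
  -- an element `h a₀` with `h ∉ A` is not a conjugate of an element of `A`
  have F4 : ∀ (h a0 : X), h ∉ A → a0 ∈ A → HasThree H (h * a0) →
      ∀ a ∈ A, ∀ x : X, x * a * x⁻¹ ≠ h * a0 := by
    intro h a0 hhA h0 hT a ha x he
    have := F1 a ha x (he ▸ hT)
    rw [he] at this
    exact hhA ((mul_mem_cancel_right h0).1 this)
  -- (W): a conjugate of `A` in `H` normalised by `A` is `A`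
  have W : ∀ g : X, (∀ a ∈ A, g * a * g⁻¹ ∈ H) →
      (∀ a ∈ A, ∀ b ∈ A, g⁻¹ * (b * (g * a * g⁻¹) * b⁻¹) * g ∈ A) →
      ∀ a ∈ A, g * a * g⁻¹ ∈ A := by
    intro g hBH hBN a ha
    by_contra haA
    obtain ⟨hbad₁, a0, h0, a1, h1, hc0, hc1, hT0, hT1, hne⟩ := F3 a ha g (hBH a ha) haA
    have key : ∀ b ∈ A, b * (g * a * g⁻¹) = (g * a * g⁻¹) * b →
        HasThree H (g * a * g⁻¹ * b) → ∃ z : X, z * b * z⁻¹ = g * a * g⁻¹ := by
      intro b hb _ hT
      have hN : g⁻¹ * b * g ∈ H := by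
        rw [hH]
        refine mem_normalizer_fintype fun c hc => ?_
        have := hBN c hc b hb
        show g⁻¹ * b * g * c * (g⁻¹ * b * g)⁻¹ ∈ A
        convert this using 1
        group
      have hA' : g⁻¹ * b * g ∉ A := by
        intro hmem
        refine F4 _ b haA hb hT (a * (g⁻¹ * b * g)) (mul_mem ha hmem) g ?_
        group
      have e : g⁻¹ * b * g = g⁻¹ * b * g⁻¹⁻¹ := by group
      obtain ⟨hbad₂, -⟩ := F3 b hb g⁻¹ (e ▸ hN) (e ▸ hA')
      obtain ⟨z, hz⟩ := hbad _ _ hbad₂ hbad₁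
      exact ⟨z * g⁻¹, by rw [← hz, ← e]; group⟩
    obtain ⟨z0, hz0⟩ := key a0 h0 hc0 hT0
    obtain ⟨z1, hz1⟩ := key a1 h1 hc1 hT1
    have he : (z1⁻¹ * z0) * a0 * (z1⁻¹ * z0)⁻¹ = a1 := by
      rw [show (z1⁻¹ * z0) * a0 * (z1⁻¹ * z0)⁻¹ = z1⁻¹ * (z0 * a0 * z0⁻¹) * z1 by group, hz0,
        ← hz1]
      group
    obtain ⟨z, hzH, hz⟩ := F2 a0 h0 (z1⁻¹ * z0) (by rw [he]; exact h1)
    exact hne z hzH (hz.trans he)
  -- (T): a Sylow 2-subgroup of `C_H(a)` is one of `C(a)`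
  have T : ∀ a ∈ A, ∀ y : X, y * a = a * y → y * y = 1 →
      ∃ c : X, c * a = a * c ∧ c * y * c⁻¹ ∈ H := by
    intro a ha y hya hy2
    obtain ⟨P, hP, hAP⟩ := H82.exists_sylowIn_ge (p := 2) (M := centralizer ({a} : Set X) ⊓ H)
      (Q := A) (fun g => ⟨1, Subtype.ext (by simpa using hA.2 g g.2)⟩)
      (fun g hg => ⟨mem_centralizer_singleton_iff.2 (hcomm g hg a ha), hAH hg⟩)
    obtain ⟨S, hS, hPS⟩ := H82.exists_sylowIn_ge hP.isPGroup (hP.le.trans inf_le_left)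
    have hPS' : P = S := by
      by_contra hne
      obtain ⟨g, hgS, hgP, hgN⟩ := H65.exists_normalizing_not_mem hS.isPGroup hPS hne
      have hgH : g ∉ H := by
        intro hgH
        have hle : P ⊔ zpowers g ≤ S := sup_le hPS (zpowers_le.2 hgS)
        have := hP.eq_of_le (hS.isPGroup.to_le hle)
          (sup_le hP.le (zpowers_le.2 (mem_inf.2 ⟨hS.le hgS, hgH⟩))) le_sup_left
        exact hgP (this ▸ mem_sup_right (mem_zpowers g))
      have hgA : ∀ b ∈ A, g * b * g⁻¹ ∈ A := by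
        refine W g (fun b hb => (hP.le ((mem_normalizer_iff.1 hgN b).1 (hAP hb))).2)
          fun b hb c hc => ?_
        -- `g⁻¹ c g ∈ P ≤ H` normalises `A`
        have h1 : g⁻¹ * c * g ∈ P := by
          refine (mem_normalizer_iff.1 hgN _).2 ?_
          rw [show g * (g⁻¹ * c * g) * g⁻¹ = c by group]
          exact hAP hc
        have h2 := (mem_normalizer_iff.1 (hH ▸ (hP.le h1).2) b).1 hb
        convert h2 using 1
        group
      exact hgH (hH ▸ mem_normalizer_fintype hgA)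
    subst hPS'
    obtain ⟨c, hc, hcP⟩ := hS.exists_conj_le (Q := zpowers y)
      (fun g => ⟨1, Subtype.ext (by
        obtain ⟨k, hk⟩ := g.2
        have h : (g : X) = y ^ k := hk.symm
        simp [h, sq, ← zpow_add, ← two_mul, zpow_mul, hy2])⟩)
      (zpowers_le.2 (mem_centralizer_singleton_iff.2 hya))
    exact ⟨c, mem_centralizer_singleton_iff.1 hc,
      (hP.le (hcP ⟨y, mem_zpowers y, rfl⟩)).2⟩
  intro a ha x hxH
  by_contra hxA
  obtain ⟨hbad₁, a0, h0, a1, h1, hc0, hc1, hT0, hT1, hne⟩ := F3 a ha x hxH hxA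
  have key : ∀ b ∈ A, b * (x * a * x⁻¹) = (x * a * x⁻¹) * b →
      HasThree H (x * a * x⁻¹ * b) → ∃ z : X, z * b * z⁻¹ = x * a * x⁻¹ := by
    intro b hb hc hT
    have hya : x⁻¹ * b * x * a = a * (x⁻¹ * b * x) := by
      calc x⁻¹ * b * x * a = x⁻¹ * (b * (x * a * x⁻¹)) * x := by group
        _ = x⁻¹ * ((x * a * x⁻¹) * b) * x := by rw [hc]
        _ = a * (x⁻¹ * b * x) := by group
    obtain ⟨y, hy, hyH⟩ := T a ha (x⁻¹ * b * x) hya (by
      rw [show x⁻¹ * b * x * (x⁻¹ * b * x) = x⁻¹ * (b * b) * x by group, hsq b hb]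
      group)
    have e : y * (x⁻¹ * b * x) * y⁻¹ = (y * x⁻¹) * b * (y * x⁻¹)⁻¹ := by group
    have hA' : y * (x⁻¹ * b * x) * y⁻¹ ∉ A := by
      intro hmem
      refine F4 _ b hxA hb hT (a * (y * (x⁻¹ * b * x) * y⁻¹)) (mul_mem ha hmem) (x * y⁻¹) ?_
      have hya' : y⁻¹ * a * y = a := by rw [mul_assoc, ← hy, inv_mul_cancel_left]
      calc x * y⁻¹ * (a * (y * (x⁻¹ * b * x) * y⁻¹)) * (x * y⁻¹)⁻¹
          = x * (y⁻¹ * a * y) * x⁻¹ * b := by group
        _ = x * a * x⁻¹ * b := by rw [hya']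
    obtain ⟨hbad₂, -⟩ := F3 b hb (y * x⁻¹) (e ▸ hyH) (e ▸ hA')
    obtain ⟨z, hz⟩ := hbad _ _ hbad₂ hbad₁
    exact ⟨z * (y * x⁻¹), by rw [← hz]; group⟩
  obtain ⟨z0, hz0⟩ := key a0 h0 hc0 hT0
  obtain ⟨z1, hz1⟩ := key a1 h1 hc1 hT1
  have he : (z1⁻¹ * z0) * a0 * (z1⁻¹ * z0)⁻¹ = a1 := by
    rw [show (z1⁻¹ * z0) * a0 * (z1⁻¹ * z0)⁻¹ = z1⁻¹ * (z0 * a0 * z0⁻¹) * z1 by group, hz0, ← hz1]
    group
  obtain ⟨z, hzH, hz⟩ := F2 a0 h0 (z1⁻¹ * z0) (by rw [he]; exact h1)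
  exact hne z hzH (hz.trans he)

end H28.U6M
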