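import Cfsg.Prelude.Def_Local
import Cfsg.Prelude.Def_Transfer
import Cfsg.Agent.H68.ExtClosed.Basic
import Cfsg.Agent.H7.SFT.Final
import Cfsg.Agent.H16.OddOrder
import Cfsg.Agent.H79.CoprimeGen
import Mathlib.GroupTheory.Transfer
import Mathlib.GroupTheory.PGroup

/-!
An elementary abelian 2-subgroup, strongly closed in its normaliser, whose big subgroups are
self-centralised and whose small subgroups see two unfused involutions: the normaliser is not
strongly 3-embedded unless it is the whole group.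
-/

set_option autoImplicit false
set_option maxHeartbeats 200000
set_option linter.style.haveILetI false
set_option linter.unusedSectionVars false

open Subgroup

namespace H28.U6M

universe u

variable {X : Type u} [Group X] [Finite X]

/-- `O` is an odd normal complement-like subgroup of the centralizer of `U`. -/
structure Good (H U O : Subgroup X) : Prop where
  odd : Odd (Nat.card O)
  le_cent : O ≤ centralizer (U : Set X)
  norm : centralizer (U : Set X) ≤ normalizer (O : Set X)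
  cover : ∀ y ∈ centralizer (U : Set X), ∃ o ∈ O, ∃ h ∈ H ⊓ centralizer (U : Set X), o * h = y

/-- The standing hypotheses. -/
structure Ctx (A H : Subgroup X) : Prop where
  elem : Cfsg.IsElementaryAbelian 2 A
  eqH : H = normalizer (A : Set X)
  closed : ∀ a ∈ A, ∀ x : X, x * a * x⁻¹ ∈ H → x * a * x⁻¹ ∈ A
  selfCent : centralizer (A : Set X) ⊓ H ≤ A

namespace Ctx

variable {A H : Subgroup X}

theorem comm (c : Ctx A H) {a b : X} (ha : a ∈ A) (hb : b ∈ A) : a * b = b * a :=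
  congrArg Subtype.val (c.elem.1.is_comm.comm (⟨a, ha⟩ : A) ⟨b, hb⟩)

theorem sq (c : Ctx A H) {a : X} (ha : a ∈ A) : a * a = 1 := by
  rw [← pow_two]; exact c.elem.2 a ha

theorem le (c : Ctx A H) : A ≤ H := c.eqH ▸ le_normalizer

theorem le_cent (c : Ctx A H) {U : Subgroup X} (hU : U ≤ A) : A ≤ centralizer (U : Set X) :=
  fun _ ha => mem_centralizer_iff.mpr fun _ hu => c.comm (hU hu) ha

theorem conj_mem (c : Ctx A H) {h a : X} (hh : h ∈ H) (ha : a ∈ A) : h * a * h⁻¹ ∈ A := by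
  rw [c.eqH] at hh
  exact (mem_normalizer_iff.mp hh a).mp ha

theorem mem_of_conj (c : Ctx A H) {x : X} (h : ∀ a ∈ A, x * a * x⁻¹ ∈ H) : x ∈ H := by
  rw [c.eqH, ← H70.cj_eq_self_iff]
  refine Subgroup.eq_of_le_of_card_ge ?_ (H70.card_cj x A).ge
  intro z hz
  rw [H70.mem_cj] at hz
  have h1 := c.closed _ hz x (h _ hz)
  simpa [mul_assoc] using h1

theorem mem_odd_eq_one (c : Ctx A H) {D : Subgroup X} (hD : Odd (Nat.card D)) {x : X}
    (hx : x ∈ D) (hxA : x ∈ A) : x = 1 := by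
  have h1 : orderOf x ∣ Nat.card D := Subgroup.orderOf_dvd_natCard _ hx
  have h2 : orderOf x ∣ 2 := orderOf_dvd_of_pow_eq_one (c.elem.2 x hxA)
  exact orderOf_eq_one_iff.mp
    (Nat.eq_one_of_dvd_coprimes (Nat.coprime_two_right.mpr hD) h1 h2)

theorem odd_eq_bot (c : Ctx A H) {D : Subgroup X} (hD : Odd (Nat.card D)) (hDH : D ≤ H)
    (hA : A ≤ normalizer (D : Set X)) : D = ⊥ := by
  rw [eq_bot_iff]
  intro d hd
  rw [mem_bot]
  refine c.mem_odd_eq_one hD hd (c.selfCent ⟨mem_centralizer_iff.mpr fun a ha => ?_, hDH hd⟩)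
  have h1 : a * d * a⁻¹ * d⁻¹ ∈ D :=
    mul_mem ((mem_normalizer_iff.mp (hA ha) d).mp hd) (inv_mem hd)
  have h2 : a * d * a⁻¹ * d⁻¹ ∈ A := by
    have : d * a⁻¹ * d⁻¹ ∈ A := c.conj_mem (hDH hd) (inv_mem ha)
    have := mul_mem ha this
    simpa [mul_assoc] using this
  have h3 := c.mem_odd_eq_one hD h1 h2
  calc a * d = (a * d * a⁻¹ * d⁻¹) * d * a := by group
    _ = d * a := by rw [h3, one_mul]

theorem inf_eq_bot (c : Ctx A H) {D : Subgroup X} (hD : Odd (Nat.card D))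
    (hA : A ≤ normalizer (D : Set X)) : D ⊓ H = ⊥ := by
  refine c.odd_eq_bot (hD.of_dvd_nat (card_dvd_of_le inf_le_left)) inf_le_right ?_
  exact H8.le_normalizer_inf hA (c.le.trans le_normalizer)

/-- An odd `A`-invariant subgroup of `C(U)` lies in the good subgroup. -/
theorem absorb (c : Ctx A H) {U O D : Subgroup X} (hU : U ≤ A) (hO : Good H U O)
    (hD : Odd (Nat.card D)) (hDC : D ≤ centralizer (U : Set X))
    (hA : A ≤ normalizer (D : Set X)) : D ≤ O := by
  have hodd : Odd (Nat.card ↥(O ⊔ D)) := H68.EC.odd_card_sup (hDC.trans hO.norm) hD hO.odd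
  have hAO : A ≤ normalizer (O : Set X) := (c.le_cent hU).trans hO.norm
  have hbot : (O ⊔ D) ⊓ H = ⊥ := c.inf_eq_bot hodd fun a ha => by
    rw [← H70.cj_eq_self_iff, H70.cj, Subgroup.map_sup]
    exact congrArg₂ _ (H70.cj_eq_self_iff.mpr (hAO ha)) (H70.cj_eq_self_iff.mpr (hA ha))
  intro x hx
  obtain ⟨o, ho, h, hh, rfl⟩ := hO.cover x (hDC hx)
  have h1 : h ∈ (O ⊔ D) ⊓ H := by
    refine ⟨?_, hh.1⟩
    have := mul_mem (inv_mem (mem_sup_left (T := D) ho)) (mem_sup_right (S := O) hx)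
    simpa using this
  rw [hbot, mem_bot] at h1
  simpa [h1] using ho

omit [Finite X] in
theorem exists_root {W : Subgroup X} (hW : Odd (Nat.card W)) {ω : X} (hω : ω ∈ W) :
    ∃ k : ℕ, ω ^ k * ω ^ k = ω := by
  obtain ⟨m, hm⟩ := hW.of_dvd_nat (Subgroup.orderOf_dvd_natCard W hω)
  refine ⟨m + 1, ?_⟩
  rw [← pow_add, show m + 1 + (m + 1) = orderOf ω + 1 by omega, pow_succ, pow_orderOf_eq_one,
    one_mul]

/-- An involution of `W (H ∩ C(U))` is a `W`-conjugate of its second coordinate. -/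
theorem invol_split {W : Subgroup X} (hW : Odd (Nat.card W)) (hWH : W ⊓ H = ⊥) {z ω h : X}
    (hω : ω ∈ W) (hh : h ∈ H) (hn : h ∈ normalizer (W : Set X)) (hz : ω * h = z)
    (hz2 : z * z = 1) : h * h = 1 ∧ ∃ τ ∈ W, τ * h * τ⁻¹ = z := by
  subst hz
  have h1 : h * ω * h⁻¹ ∈ W := (mem_normalizer_iff.mp hn ω).mp hω
  have e : ω * (h * ω * h⁻¹) * (h * h) = 1 := by
    rw [← hz2]; group
  have hh2 : h * h ∈ W ⊓ H := by
    refine Subgroup.mem_inf.mpr ⟨?_, mul_mem hh hh⟩
    rw [eq_inv_of_mul_eq_one_right e]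
    exact inv_mem (mul_mem hω h1)
  rw [hWH, mem_bot] at hh2
  refine ⟨hh2, ?_⟩
  rw [hh2, mul_one] at e
  have hinv : h * ω * h⁻¹ = ω⁻¹ := eq_inv_of_mul_eq_one_right e
  obtain ⟨k, hk⟩ := exists_root hW hω
  refine ⟨ω ^ k, pow_mem hω k, ?_⟩
  have hk' : h * ω ^ k * h⁻¹ = (ω ^ k)⁻¹ := by rw [← conj_pow, hinv, inv_pow]
  have hk'' : h * (ω ^ k)⁻¹ * h⁻¹ = ω ^ k := by
    calc h * (ω ^ k)⁻¹ * h⁻¹ = (h * ω ^ k * h⁻¹)⁻¹ := by group
      _ = ω ^ k := by rw [hk', inv_inv]
  calc ω ^ k * h * (ω ^ k)⁻¹ = ω ^ k * (h * (ω ^ k)⁻¹ * h⁻¹) * h := by group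
    _ = ω * h := by rw [hk'', hk]

/-- The involution argument: the cover is everything. -/
theorem big_good (c : Ctx A H) {U W : Subgroup X} (hU : U ≤ A) (hW : Odd (Nat.card W))
    (hWC : W ≤ centralizer (U : Set X))
    (hWn : H ⊓ centralizer (U : Set X) ≤ normalizer (W : Set X))
    (hcov : ∀ a ∈ A, a ∉ U →
      centralizer (U : Set X) ⊓ centralizer ({a} : Set X) ≤ W ⊔ H ⊓ centralizer (U : Set X))
    {v w : X} (hv : v ∈ A) (hw : w ∈ A) (hvU : v ∉ U) (hwU : w ∉ U)
    (hvw : ∀ h ∈ H ⊓ centralizer (U : Set X), h * v * h⁻¹ * w⁻¹ ∉ U) : Good H U W := by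
  set N := W ⊔ H ⊓ centralizer (U : Set X) with hN
  have hNC : N ≤ centralizer (U : Set X) := sup_le hWC inf_le_right
  have hAN : A ≤ N := le_sup_of_le_right (le_inf c.le (c.le_cent hU))
  have hAW : A ≤ normalizer (W : Set X) := (le_inf c.le (c.le_cent hU)).trans hWn
  have hWH : W ⊓ H = ⊥ := c.inf_eq_bot hW hAW
  have dec : ∀ y ∈ N, ∃ o ∈ W, ∃ h ∈ H ⊓ centralizer (U : Set X), o * h = y := by
    intro y hy
    have hy' : y ∈ ((W ⊔ H ⊓ centralizer (U : Set X) : Subgroup X) : Set X) := hy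
    rw [coe_mul_of_right_le_normalizer_left _ _ hWn] at hy'
    exact hy'
  have hUfix : ∀ y ∈ centralizer (U : Set X), ∀ s ∈ U, y * s * y⁻¹ = s := by
    intro y hy s hs
    rw [← mem_centralizer_iff.mp hy s hs, mul_inv_cancel_right]
  have K0 : ∀ z ∈ N, ∀ a ∈ A, ∀ x : X, x * a * x⁻¹ = z → ∃ τ ∈ W, τ⁻¹ * z * τ ∈ A := by
    intro z hz a ha x hx
    obtain ⟨ω, hω, h, hh, e⟩ := dec z hz
    have hz2 : z * z = 1 := by
      rw [← hx, show x * a * x⁻¹ * (x * a * x⁻¹) = x * (a * a) * x⁻¹ by group, c.sq ha]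
      group
    obtain ⟨-, τ, hτ, hτh⟩ := invol_split hW hWH hω hh.1 (hWn hh) e hz2
    refine ⟨τ, hτ, ?_⟩
    have e1 : τ⁻¹ * x * a * (τ⁻¹ * x)⁻¹ = h := by
      calc τ⁻¹ * x * a * (τ⁻¹ * x)⁻¹ = τ⁻¹ * (x * a * x⁻¹) * τ := by group
        _ = τ⁻¹ * (τ * h * τ⁻¹) * τ := by rw [hx, hτh]
        _ = h := by group
    have h1 := c.closed a ha (τ⁻¹ * x) (e1 ▸ hh.1)
    rw [show τ⁻¹ * z * τ = τ⁻¹ * x * a * (τ⁻¹ * x)⁻¹ by rw [← hx]; group]
    exact h1
  have K : ∀ y ∈ centralizer (U : Set X), ∀ a ∈ A, a ∉ U → y * a * y⁻¹ ∈ N → y ∈ N := by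
    intro y hy a ha haU hz
    obtain ⟨τ, hτ, hα⟩ := K0 _ hz a ha y rfl
    set y₁ := τ⁻¹ * y with hy₁
    have hy₁C : y₁ ∈ centralizer (U : Set X) := mul_mem (inv_mem (hWC hτ)) hy
    have hαe : τ⁻¹ * (y * a * y⁻¹) * τ = y₁ * a * y₁⁻¹ := by rw [hy₁]; group
    rw [hαe] at hα
    have hαU : y₁ * a * y₁⁻¹ ∉ U := fun h => haU (by
      have := hUfix _ (inv_mem hy₁C) _ h
      rw [show y₁⁻¹ * (y₁ * a * y₁⁻¹) * y₁⁻¹⁻¹ = a by group] at this
      rw [this]; exact h)
    have hle : H70.cj y₁ A ≤ W ⊔ A := by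
      intro z hz
      rw [H70.mem_cj] at hz
      have hzC : z ∈ centralizer (U : Set X) ⊓ centralizer ({y₁ * a * y₁⁻¹} : Set X) := by
        have hz' : y₁ * (y₁⁻¹ * z * y₁) * y₁⁻¹ = z := by group
        refine Subgroup.mem_inf.mpr ⟨hz' ▸ mul_mem (mul_mem hy₁C (c.le_cent hU hz)) (inv_mem hy₁C), ?_⟩
        refine mem_centralizer_singleton_iff.mpr ?_
        rw [← hz']
        calc y₁ * (y₁⁻¹ * z * y₁) * y₁⁻¹ * (y₁ * a * y₁⁻¹)
              = y₁ * ((y₁⁻¹ * z * y₁) * a) * y₁⁻¹ := by group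
          _ = y₁ * (a * (y₁⁻¹ * z * y₁)) * y₁⁻¹ := by rw [c.comm hz ha]
          _ = _ := by group
      have hzN : z ∈ N := hcov _ hα hαU hzC
      obtain ⟨σ, hσ, hσz⟩ := K0 z hzN _ hz y₁ (by group)
      have e : z = σ * (σ⁻¹ * z * σ) * σ⁻¹ := by group
      rw [e]
      exact mul_mem (mul_mem (mem_sup_left hσ) (mem_sup_right hσz)) (inv_mem (mem_sup_left hσ))
    have hp : IsPGroup 2 A := fun b => ⟨1, Subtype.ext (by simpa using c.elem.2 b b.2)⟩
    obtain ⟨k, hk, hkA⟩ := H68.EC.exists_conj_of_le_sup (K := W) hp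
      (hp.map (MulAut.conj y₁).toMonoidHom) hW hAW hle (H70.card_cj _ _)
    have hH1 : k⁻¹ * y₁ ∈ H := by
      rw [c.eqH, ← H70.cj_eq_self_iff, ← H70.cj_cj]
      rw [H70.cj_eq_iff] at hkA
      exact hkA.symm
    have hy₁N : y₁ ∈ N := by
      have : k⁻¹ * y₁ ∈ H ⊓ centralizer (U : Set X) :=
        Subgroup.mem_inf.mpr ⟨hH1, mul_mem (inv_mem (hWC hk)) hy₁C⟩
      have := mul_mem (mem_sup_left (T := H ⊓ centralizer (U : Set X)) hk) (mem_sup_right (S := W) this)
      simpa using this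
    have := mul_mem (mem_sup_left (T := H ⊓ centralizer (U : Set X)) hτ) hy₁N
    simpa [hy₁] using this
  have noconj : ∀ n ∈ N, ∀ s ∈ U, n * v * n⁻¹ ≠ w * s := by
    intro n hn s hs he
    obtain ⟨ω, hω, h, hh, rfl⟩ := dec n hn
    set α := h * v * h⁻¹ with hα
    have hαA : α ∈ A := c.conj_mem hh.1 hv
    have h1 : α⁻¹ * ω * α * ω⁻¹ ∈ W := by
      refine mul_mem ?_ (inv_mem hω)
      have := (mem_normalizer_iff.mp (hAW (inv_mem hαA)) ω).mp hω
      simpa using this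
    have h2 : α⁻¹ * ω * α * ω⁻¹ ∈ A := by
      have e : α⁻¹ * (w * s) = α⁻¹ * ω * α * ω⁻¹ := by rw [← he, hα]; group
      rw [← e]
      exact mul_mem (inv_mem hαA) (mul_mem hw (hU hs))
    have h3 := c.mem_odd_eq_one hW h1 h2
    refine hvw h hh ?_
    have e : α = w * s := by
      rw [← he, show ω * h * v * (ω * h)⁻¹ = α * (α⁻¹ * ω * α * ω⁻¹) by rw [hα]; group, h3,
        mul_one]
    rw [← hα, e, c.comm hw (hU hs), mul_assoc, mul_inv_cancel, mul_one]
    exact hs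
  have main : ∀ y ∈ centralizer (U : Set X), y ∈ N := by
    intro y hy
    set w' := y * w * y⁻¹ with hw'
    have hvC : v ∈ centralizer (U : Set X) := c.le_cent hU hv
    have hw'C : w' ∈ centralizer (U : Set X) := mul_mem (mul_mem hy (c.le_cent hU hw)) (inv_mem hy)
    have hv2 : v * v = 1 := c.sq hv
    have hw2 : w' * w' = 1 := by
      rw [hw', show y * w * y⁻¹ * (y * w * y⁻¹) = y * (w * w) * y⁻¹ by group, c.sq hw]
      group
    set r := v * w' with hr
    have hrC : r ∈ centralizer (U : Set X) := mul_mem hvC hw'C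
    have hvr : v * r * v = r⁻¹ := by
      rw [hr, mul_inv_rev, inv_eq_of_mul_eq_one_right hw2, inv_eq_of_mul_eq_one_right hv2,
        ← mul_assoc v v w', hv2, one_mul]
    have hvi : v⁻¹ = v := inv_eq_of_mul_eq_one_right hv2
    have hpow : ∀ i : ℕ, v * r ^ i * v = (r ^ i)⁻¹ := by
      intro i
      nth_rw 2 [← hvi]
      rw [← conj_pow]
      rw [hvi, hvr, inv_pow]
    have hswap : ∀ i : ℕ, v * (r ^ i)⁻¹ = r ^ i * v := by
      intro i
      rw [← hpow i, ← mul_assoc, ← mul_assoc, hv2, one_mul]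
    have hex : ∃ n, 0 < n ∧ r ^ n ∈ U :=
      ⟨orderOf r, orderOf_pos r, by rw [pow_orderOf_eq_one]; exact one_mem U⟩
    classical
    obtain ⟨hn0, hnU⟩ := Nat.find_spec hex
    have hmin : ∀ k, 0 < k → k < Nat.find hex → r ^ k ∉ U := fun k hk hlt h =>
      Nat.find_min hex hlt ⟨hk, h⟩
    set n := Nat.find hex
    rcases Nat.even_or_odd' n with ⟨m, hm | hm⟩
    · have hm0 : 0 < m := by omega
      set u₀ := r ^ m with hu₀
      have hu₀U : u₀ ∉ U := hmin m hm0 (by omega)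
      have hu₀2 : u₀ * u₀ ∈ U := by
        rw [hu₀, ← pow_add, show m + m = n by omega]; exact hnU
      have hu₀C : u₀ ∈ centralizer (U : Set X) := pow_mem hrC m
      have hu₀N : u₀ ∈ N := by
        refine K u₀ hu₀C v hv hvU ?_
        have e : u₀ * v * u₀⁻¹ = v * (u₀ * u₀)⁻¹ := by
          rw [hu₀, ← hswap m, mul_assoc, mul_inv_rev]
        rw [e]
        exact mul_mem (hAN hv) (inv_mem (hAN (hU hu₀2)))
      have hconj : ∃ g a, a ∈ A ∧ g * a * g⁻¹ = v * u₀ := by
        rcases Nat.even_or_odd' m with ⟨j, hj | hj⟩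
        · refine ⟨(r ^ j)⁻¹, v, hv, ?_⟩
          rw [inv_inv, ← hpow j, hu₀, hj, mul_assoc (v * r ^ j) v v, hv2, mul_one, mul_assoc v,
            ← pow_add, two_mul]
        · refine ⟨(r ^ j)⁻¹ * y, w, hw, ?_⟩
          have e1 : (r ^ j)⁻¹ * y * w * ((r ^ j)⁻¹ * y)⁻¹ = (r ^ j)⁻¹ * (v * r) * r ^ j := by
            rw [show (r ^ j)⁻¹ * y * w * ((r ^ j)⁻¹ * y)⁻¹ = (r ^ j)⁻¹ * w' * r ^ j by
              rw [hw']; group, hr, ← mul_assoc v v w', hv2, one_mul]
          rw [e1, hu₀, hj, ← hpow j, mul_assoc (v * r ^ j) v, ← mul_assoc v v r, hv2, one_mul,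
            mul_assoc, mul_assoc, ← pow_succ', ← pow_add]
          congr 2
          omega
      obtain ⟨g, a, ha, hga⟩ := hconj
      obtain ⟨τ, hτ, hα⟩ := K0 (v * u₀) (mul_mem (hAN hv) hu₀N) a ha g hga
      set α := τ⁻¹ * (v * u₀) * τ with hαdef
      have hu₀e : ∃ ω ∈ W, ∃ α₂ ∈ A, ω * α₂ = u₀ := by
        refine ⟨v * τ * v * (v * α * τ⁻¹ * (v * α)⁻¹), ?_, v * α, mul_mem hv hα, ?_⟩
        · refine mul_mem ?_ ?_
          · have := (mem_normalizer_iff.mp (hAW hv) τ).mp hτ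
            rwa [hvi] at this
          · exact (mem_normalizer_iff.mp (hAW (mul_mem hv hα)) τ⁻¹).mp (inv_mem hτ)
        · calc v * τ * v * (v * α * τ⁻¹ * (v * α)⁻¹) * (v * α)
                = v * τ * (v * v) * α * τ⁻¹ := by group
            _ = v * τ * α * τ⁻¹ := by rw [hv2, mul_one]
            _ = (v * v) * u₀ := by rw [hαdef]; group
            _ = u₀ := by rw [hv2, one_mul]
      obtain ⟨ω, hω, α₂, hα₂, e₀⟩ := hu₀e
      have hsq : u₀ * u₀ = 1 := by
        refine c.mem_odd_eq_one hW ?_ (hU hu₀2)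
        have : u₀ * u₀ = ω * (α₂ * ω * α₂⁻¹) * (α₂ * α₂) := by rw [← e₀]; group
        rw [this, c.sq hα₂, mul_one]
        exact mul_mem hω ((mem_normalizer_iff.mp (hAW hα₂) ω).mp hω)
      obtain ⟨-, σ, hσ, hσu⟩ := invol_split hW hWH hω (c.le hα₂) (hAW hα₂) e₀ hsq
      have hα₂U : α₂ ∉ U := fun h => hu₀U (by rw [← hσu, hUfix σ (hWC hσ) α₂ h]; exact h)
      have hcomm : w' * u₀ = u₀ * w' := by
        have hu₀i : u₀⁻¹ = u₀ := inv_eq_of_mul_eq_one_right hsq
        have hvu : v * u₀ * v = u₀ := by rw [hu₀, hpow, ← hu₀, hu₀i]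
        have hvu' : v * u₀ = u₀ * v := by
          calc v * u₀ = v * u₀ * (v * v) := by rw [hv2, mul_one]
            _ = (v * u₀ * v) * v := by group
            _ = u₀ * v := by rw [hvu]
        have hw'r : w' = v * r := by rw [hr, ← mul_assoc, hv2, one_mul]
        have hru : r * u₀ = u₀ * r := (Commute.self_pow r m).eq
        rw [hw'r, mul_assoc, hru, ← mul_assoc, hvu', mul_assoc]
      have hw'N : w' ∈ N := by
        have h1 : σ⁻¹ * w' * σ ∈ centralizer (U : Set X) ⊓ centralizer ({α₂} : Set X) := by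
          refine Subgroup.mem_inf.mpr ⟨mul_mem (mul_mem (inv_mem (hWC hσ)) hw'C) (hWC hσ), ?_⟩
          refine mem_centralizer_singleton_iff.mpr ?_
          have e : α₂ = σ⁻¹ * u₀ * σ := by rw [← hσu]; group
          rw [e]
          calc σ⁻¹ * w' * σ * (σ⁻¹ * u₀ * σ) = σ⁻¹ * (w' * u₀) * σ := by group
            _ = σ⁻¹ * (u₀ * w') * σ := by rw [hcomm]
            _ = _ := by group
        have h2 := mul_mem (mul_mem (mem_sup_left (T := H ⊓ centralizer (U : Set X)) hσ)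
          (hcov _ hα₂ hα₂U h1)) (inv_mem (mem_sup_left (T := H ⊓ centralizer (U : Set X)) hσ))
        simpa [mul_assoc] using h2
      exact K y hy w hw hwU hw'N
    · exfalso
      set g := r ^ m with hg
      set s := r ^ n with hs
      have hgC : g ∈ centralizer (U : Set X) := pow_mem hrC m
      have e1 : g * v * g⁻¹ = s * w' := by
        calc g * v * g⁻¹ = v * (r ^ m * r ^ m)⁻¹ := by
              rw [hg, ← hswap m, mul_assoc, mul_inv_rev]
          _ = r ^ (m + m) * v := by rw [← pow_add, hswap]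
          _ = r ^ (m + m) * r * w' := by
              rw [mul_assoc (r ^ (m + m)) r w']
              congr 1
              rw [hr, mul_assoc, hw2, mul_one]
          _ = s * w' := by rw [← pow_succ, hs, hm, two_mul]
      set n₀ := y⁻¹ * g with hn₀
      have hn₀C : n₀ ∈ centralizer (U : Set X) := mul_mem (inv_mem hy) hgC
      have e2 : n₀ * v * n₀⁻¹ = w * s := by
        rw [hn₀, show y⁻¹ * g * v * (y⁻¹ * g)⁻¹ = y⁻¹ * (g * v * g⁻¹) * y by group, e1, hw',
          show y⁻¹ * (s * (y * w * y⁻¹)) * y = (y⁻¹ * s * y⁻¹⁻¹) * w by group,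
          hUfix _ (inv_mem hy) s hnU, c.comm (hU hnU) hw]
      exact noconj n₀ (K n₀ hn₀C v hv hvU (e2 ▸ hAN (mul_mem hw (hU hnU)))) s hnU e2
  refine ⟨hW, hWC, fun y hy => ?_, fun y hy => dec y (main y hy)⟩
  exact (sup_le le_normalizer hWn : N ≤ normalizer (W : Set X)) (main y hy)

/-- The small case: Burnside's transfer theorem. -/
theorem small_good (c : Ctx A H) {U : Subgroup X} (hU : U ≤ A)
    (hsm : H ⊓ centralizer (U : Set X) ≤ A) : ∃ O, Good H U O := by
  haveI : Fact (Nat.Prime 2) := ⟨Nat.prime_two⟩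
  set Y := centralizer (U : Set X) with hY
  set A' := A.subgroupOf Y with hA'
  have hp : IsPGroup 2 A' := fun a => ⟨1, Subtype.ext (Subtype.ext (by simpa using c.elem.2 _ a.2))⟩
  have hN : ∀ g : Y, g ∈ normalizer (A' : Set Y) → (g : X) ∈ A := by
    intro g hg
    refine hsm ⟨c.mem_of_conj fun a ha => c.le ?_, g.2⟩
    exact (mem_normalizer_iff.mp hg ⟨a, c.le_cent hU ha⟩).mp ha
  obtain ⟨P, hP⟩ := hp.exists_le_sylow
  have hPA : (P : Subgroup Y) = A' := by
    by_contra hne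
    have hlt : A'.subgroupOf (P : Subgroup Y) < ⊤ := by
      refine lt_top_iff_ne_top.mpr fun h => hne (le_antisymm ?_ hP)
      exact subgroupOf_eq_top.mp h
    haveI : Group.IsNilpotent (P : Subgroup Y) := P.isPGroup'.isNilpotent
    obtain ⟨s, hs, hsn⟩ := SetLike.exists_of_lt
      (Group.normalizerCondition_of_isNilpotent _ hlt)
    refine hsn (mem_subgroupOf.mpr (mem_subgroupOf.mpr (hN s ?_)))
    rw [← H70.cj_eq_self_iff]
    refine Subgroup.eq_of_le_of_card_ge ?_ (H70.card_cj _ _).ge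
    intro z hz
    rw [H70.mem_cj] at hz
    have h1 := (mem_normalizer_iff.mp hs ⟨(s : Y)⁻¹ * z * s, hP hz⟩).mp (by
      rw [mem_subgroupOf]; exact hz)
    rw [mem_subgroupOf] at h1
    simpa [mul_assoc] using h1
  have hPc : normalizer ((P : Subgroup Y) : Set Y) ≤ centralizer ((P : Subgroup Y) : Set Y) := by
    rw [hPA]
    intro g hg
    exact mem_centralizer_iff.mpr fun a ha => Subtype.ext (c.comm ha (hN g hg))
  have hcompl := MonoidHom.ker_transferSylow_isComplement' P hPc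
  set Kt := (MonoidHom.transferSylow P hPc).ker with hKt
  refine ⟨Kt.map Y.subtype, ⟨?_, map_subtype_le _, fun g hg => ?_, fun y hy => ?_⟩⟩
  · rw [card_map_of_injective Y.subtype_injective]
    exact Nat.not_even_iff_odd.mp fun he =>
      MonoidHom.not_dvd_card_ker_transferSylow P hPc (even_iff_two_dvd.mp he)
  · rw [← H70.cj_eq_self_iff]
    refine Subgroup.eq_of_le_of_card_ge ?_ (H70.card_cj _ _).ge
    intro z hz
    rw [H70.mem_cj] at hz
    obtain ⟨k, hk, hke⟩ := hz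
    have hnk : Kt.Normal := MonoidHom.normal_ker _
    refine ⟨(⟨g, hg⟩ : Y) * k * (⟨g, hg⟩ : Y)⁻¹, hnk.conj_mem _ hk _, ?_⟩
    have hke' : (k : X) = g⁻¹ * z * g := hke
    show g * (k : X) * g⁻¹ = z
    rw [hke']; group
  · obtain ⟨⟨k, a⟩, hka⟩ := hcompl.2 ⟨y, hy⟩
    have haA : ((a : Y) : X) ∈ A := (hPA.le a.2 : (a : Y) ∈ A')
    exact ⟨_, ⟨k, k.2, rfl⟩, _, ⟨c.le haA, (a : Y).2⟩, congrArg Subtype.val hka⟩

theorem exists_complement (c : Ctx A H) {U : Subgroup X} (hU : U ≤ A) :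
    ∃ B ≤ A, B ⊓ U = ⊥ ∧ B ⊔ U = A := by
  classical
  obtain ⟨B, ⟨hBA, hBU⟩, hmax⟩ := (Set.toFinite {B : Subgroup X | B ≤ A ∧ B ⊓ U = ⊥}).exists_maximal
    ⟨⊥, bot_le, bot_inf_eq _⟩
  refine ⟨B, hBA, hBU, le_antisymm (sup_le hBA hU) fun a ha => ?_⟩
  by_contra hna
  have hle : zpowers a ≤ normalizer (B : Set X) :=
    (zpowers_le.mpr ha).trans ((c.le_cent hBA).trans (centralizer_le_normalizer _))
  have hB' : (B ⊔ zpowers a) ⊓ U = ⊥ := by
    rw [eq_bot_iff]
    intro x hx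
    rw [mem_bot]
    have hx1 : x ∈ ((B ⊔ zpowers a : Subgroup X) : Set X) := hx.1
    rw [coe_mul_of_right_le_normalizer_left _ _ hle] at hx1
    obtain ⟨b, hb, p, hp, rfl⟩ := hx1
    obtain ⟨i, rfl⟩ := mem_zpowers_iff.mp hp
    rcases Int.even_or_odd i with ⟨k, hk⟩ | ⟨k, hk⟩
    · have e : a ^ i = 1 := by
        rw [hk, ← two_mul, zpow_mul, zpow_two, c.sq ha, one_zpow]
      simp only [e, mul_one] at hx ⊢
      have : b ∈ B ⊓ U := ⟨hb, hx.2⟩
      rwa [hBU, mem_bot] at this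
    · have e : a ^ i = a := by
        rw [hk, zpow_add, zpow_mul, zpow_two, c.sq ha, one_zpow, one_mul, zpow_one]
      simp only [e] at hx
      exfalso
      refine hna ?_
      have := mul_mem (mem_sup_left (T := U) (inv_mem hb)) (mem_sup_right (S := B) hx.2)
      simpa using this
  have := hmax ⟨sup_le hBA (zpowers_le.mpr ha), hB'⟩ le_sup_left
  exact hna (mem_sup_left (this (mem_sup_right (mem_zpowers a))))

theorem card_eq_mul (c : Ctx A H) {U B : Subgroup X} (hU : U ≤ A) (hB : B ≤ A)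
    (_hd : B ⊓ U = ⊥) (hs : B ⊔ U = A) : Nat.card A ≤ Nat.card B * Nat.card U := by
  rw [← hs]
  exact Nat.le_of_dvd (Nat.mul_pos Nat.card_pos Nat.card_pos)
    (H68.EC.card_sup_dvd ((hU.trans (c.le_cent hB)).trans (centralizer_le_normalizer _)))

open Classical in
theorem exists_good (c : Ctx A H)
    (hsmall : ∀ U ≤ A, Nat.card A ≤ 2 ^ 5 * Nat.card U → H ⊓ centralizer (U : Set X) ≤ A)
    (hbig : ∀ U ≤ A, 2 ^ 5 * Nat.card U < Nat.card A → ∃ v ∈ A, ∃ w ∈ A, v ∉ U ∧ w ∉ U ∧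
      ∀ h ∈ H ⊓ centralizer (U : Set X), h * v * h⁻¹ * w⁻¹ ∉ U) :
    ∀ U ≤ A, ∃ O, Good H U O := by
  intro U
  induction hn : Nat.card A - Nat.card U using Nat.strong_induction_on generalizing U with
  | _ n ih =>
    intro hU
    subst hn
    by_cases hsm : Nat.card A ≤ 2 ^ 5 * Nat.card U
    · exact c.small_good hU (hsmall U hU hsm)
    push Not at hsm
    obtain ⟨v, hv, w, hw, hvU, hwU, hvw⟩ := hbig U hU hsm
    obtain ⟨B, hBA, hBU, hBs⟩ := c.exists_complement hU
    have hB8 : 2 ^ 3 ≤ Nat.card B := by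
      have h1 := c.card_eq_mul hU hBA hBU hBs
      have h2 : 2 ^ 5 < Nat.card B :=
        lt_of_mul_lt_mul_right (hsm.trans_le h1) (Nat.zero_le _)
      omega
    have hnot : ∀ a ∈ B, a ≠ 1 → a ∉ U := fun a ha ha1 h => ha1 (by
      have : a ∈ B ⊓ U := ⟨ha, h⟩
      rwa [hBU, mem_bot] at this)
    have hgood : ∀ a ∈ B, a ≠ 1 → ∃ O, Good H (U ⊔ zpowers a) O := by
      intro a ha ha1
      have hle : U ⊔ zpowers a ≤ A := sup_le hU (zpowers_le.mpr (hBA ha))
      refine ih _ ?_ _ rfl hle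
      have hlt : Nat.card U < Nat.card ↥(U ⊔ zpowers a) := by
        refine lt_of_not_ge fun h => hnot a ha ha1 ?_
        rw [Subgroup.eq_of_le_of_card_ge le_sup_left h]
        exact mem_sup_right (mem_zpowers a)
      have := Nat.le_of_dvd Nat.card_pos (card_dvd_of_le hle)
      omega
    set θ : X → Subgroup X := fun a =>
      if h : a ∈ B ∧ a ≠ 1 then (hgood a h.1 h.2).choose else ⊥ with hθdef
    have hθ : ∀ a ∈ B, a ≠ 1 → Good H (U ⊔ zpowers a) (θ a) := by
      intro a ha ha1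
      simp only [hθdef, dif_pos (And.intro ha ha1)]
      exact (hgood a ha ha1).choose_spec
    have hsup : ∀ {a : X} {D : Subgroup X}, D ≤ centralizer (U : Set X) →
        D ≤ centralizer ({a} : Set X) → D ≤ centralizer ((U ⊔ zpowers a : Subgroup X) : Set X) := by
      intro a D h1 h2
      rw [Subgroup.le_centralizer_iff]
      refine sup_le (Subgroup.le_centralizer_iff.mp h1) (zpowers_le.mpr ?_)
      exact mem_centralizer_iff.mpr fun d hd => mem_centralizer_singleton_iff.mp (h2 hd)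
    have hθU : ∀ a ∈ B, a ≠ 1 → θ a ≤ centralizer (U : Set X) := fun a ha ha1 =>
      (hθ a ha ha1).le_cent.trans (centralizer_le (SetLike.coe_subset_coe.mpr le_sup_left))
    have hθa : ∀ a ∈ B, a ≠ 1 → θ a ≤ centralizer ({a} : Set X) := fun a ha ha1 =>
      (hθ a ha ha1).le_cent.trans
        (centralizer_le (Set.singleton_subset_iff.mpr (mem_sup_right (mem_zpowers a))))
    have hθA : ∀ a ∈ B, a ≠ 1 → A ≤ normalizer (θ a : Set X) := fun a ha ha1 =>
      (c.le_cent (sup_le hU (zpowers_le.mpr (hBA ha)))).trans (hθ a ha ha1).norm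
    have hBe : Cfsg.IsElementaryAbelian 2 B :=
      ⟨⟨⟨fun x y => Subtype.ext (c.comm (hBA x.2) (hBA y.2))⟩⟩, fun a ha => c.elem.2 a (hBA ha)⟩
    have hfun : Cfsg.IsSolvableSignalizerFunctor 2 B θ := by
      refine ⟨⟨hθa, fun a ha ha1 => ?_, fun a ha ha1 b hb x hx => ?_, fun a ha ha1 b hb hb1 => ?_⟩,
        fun a ha ha1 => H16.FT.oddOrder (hθ a ha ha1).odd⟩
      · exact fun h => Nat.not_even_iff_odd.mpr (hθ a ha ha1).odd (even_iff_two_dvd.mpr h)
      · exact (mem_normalizer_iff.mp (hθA a ha ha1 (hBA hb)) x).mp hx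
      · refine c.absorb (sup_le hU (zpowers_le.mpr (hBA hb))) (hθ b hb hb1)
          ((hθ a ha ha1).odd.of_dvd_nat (card_dvd_of_le inf_le_left))
          (hsup (inf_le_left.trans (hθU a ha ha1)) inf_le_right) ?_
        refine H8.le_normalizer_inf (hθA a ha ha1) (fun x hx => ?_)
        exact le_normalizer (mem_centralizer_singleton_iff.mpr (c.comm hx (hBA hb)))
    haveI : Fact (Nat.Prime 2) := ⟨Nat.prime_two⟩
    have hB1 : B ≠ ⊥ := fun h => by
      rw [h, Subgroup.card_bot] at hB8; norm_num at hB8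
    obtain ⟨-, hW2, -⟩ := H84.SFT.closure_of_complete hfun hB1 (H7.SFT.complete hBe hB8 hfun)
    set W : Subgroup X := ⨆ a : {a : X // a ∈ B ∧ a ≠ 1}, θ a with hWdef
    have hWC : W ≤ centralizer (U : Set X) := iSup_le fun a => hθU a a.2.1 a.2.2
    have hfwd : ∀ h ∈ H ⊓ centralizer (U : Set X), ∀ a ∈ B, a ≠ 1 → H70.cj h (θ a) ≤ W := by
      intro h hh a ha ha1
      have hbA : h * a * h⁻¹ ∈ A := c.conj_mem hh.1 (hBA ha)
      have hb' : h * a * h⁻¹ ∈ ((B ⊔ U : Subgroup X) : Set X) := hBs.symm.le hbA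
      rw [coe_mul_of_right_le_normalizer_left _ _
        ((hU.trans (c.le_cent hBA)).trans (centralizer_le_normalizer _))] at hb'
      obtain ⟨a', ha', s, hs, e⟩ := hb'
      change a' * s = _ at e
      have ha'1 : a' ≠ 1 := by
        rintro rfl
        refine hnot a ha ha1 ?_
        have hsb : h * a * h⁻¹ ∈ U := by rw [← e, one_mul]; exact hs
        have := mem_centralizer_iff.mp (inv_mem hh.2) _ hsb
        have e2 : a = h * a * h⁻¹ := by
          calc a = h⁻¹ * (h * a * h⁻¹) * h := by group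
            _ = (h * a * h⁻¹ * h⁻¹) * h := by rw [this]
            _ = h * a * h⁻¹ := by group
        rw [e2]; exact hsb
      refine (c.absorb (sup_le hU (zpowers_le.mpr (hBA ha'))) (hθ a' ha' ha'1) ?_ ?_ ?_).trans
        (le_iSup (fun b : {b : X // b ∈ B ∧ b ≠ 1} => θ b) ⟨a', ha', ha'1⟩)
      · rw [H70.card_cj]; exact (hθ a ha ha1).odd
      · have h1 : H70.cj h (θ a) ≤ centralizer (U : Set X) := by
          intro z hz
          rw [H70.mem_cj] at hz
          have hhU : h ∈ centralizer (U : Set X) := hh.2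
          have := mul_mem (mul_mem hhU (hθU a ha ha1 hz)) (inv_mem hhU)
          simpa [mul_assoc] using this
        refine hsup h1 ?_
        intro z hz
        have hz' := hz
        rw [H70.mem_cj] at hz
        have hzs : s * z = z * s := mem_centralizer_iff.mp (h1 hz') s hs
        have hzb : z * (h * a * h⁻¹) = (h * a * h⁻¹) * z := by
          have := mem_centralizer_singleton_iff.mp (hθa a ha ha1 hz)
          calc z * (h * a * h⁻¹) = h * ((h⁻¹ * z * h) * a) * h⁻¹ := by group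
            _ = h * (a * (h⁻¹ * z * h)) * h⁻¹ := by rw [this]
            _ = _ := by group
        refine mem_centralizer_singleton_iff.mpr ?_
        rw [show a' = h * a * h⁻¹ * s⁻¹ by rw [← e, mul_inv_cancel_right], ← mul_assoc, hzb,
          mul_assoc, mul_assoc (h * a * h⁻¹) s⁻¹ z]
        congr 1
        exact ((show Commute s z from hzs).inv_left).eq.symm
      · intro x hx
        rw [← H70.cj_eq_self_iff]
        have hx' : h⁻¹ * x * h ∈ normalizer (θ a : Set X) := by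
          have := c.conj_mem (inv_mem hh.1) hx
          rw [inv_inv] at this
          exact hθA a ha ha1 this
        rw [H70.cj_cj, show x * h = h * (h⁻¹ * x * h) by group, ← H70.cj_cj,
          H70.cj_eq_self_iff.mpr hx']
    have hWn : H ⊓ centralizer (U : Set X) ≤ normalizer (W : Set X) := by
      intro h hh
      rw [← H70.cj_eq_self_iff]
      refine Subgroup.eq_of_le_of_card_ge ?_ (H70.card_cj _ _).ge
      rw [H70.cj, hWdef, Subgroup.map_iSup]
      exact iSup_le fun a => hfwd h hh a a.2.1 a.2.2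
    refine ⟨W, c.big_good hU (Nat.not_even_iff_odd.mp fun he => hW2 (even_iff_two_dvd.mp he))
      hWC hWn ?_ hv hw hvU hwU hvw⟩
    intro a ha haU y hy
    have ha' : a ∈ ((B ⊔ U : Subgroup X) : Set X) := hBs.symm.le ha
    rw [coe_mul_of_right_le_normalizer_left _ _
      ((hU.trans (c.le_cent hBA)).trans (centralizer_le_normalizer _))] at ha'
    obtain ⟨b, hb, s, hs, e⟩ := ha'
    change b * s = a at e
    have hb1 : b ≠ 1 := by
      rintro rfl
      exact haU (by rw [← e, one_mul]; exact hs)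
    have hyb : y ∈ centralizer ({b} : Set X) := by
      refine mem_centralizer_singleton_iff.mpr ?_
      have h1 := mem_centralizer_singleton_iff.mp hy.2
      have h2 : Commute s y := mem_centralizer_iff.mp hy.1 s hs
      rw [show b = a * s⁻¹ by rw [← e, mul_inv_cancel_right], ← mul_assoc, h1,
        mul_assoc, mul_assoc a s⁻¹ y, h2.inv_left.eq]
    have hy' : y ∈ centralizer ((U ⊔ zpowers b : Subgroup X) : Set X) :=
      hsup (D := zpowers y) (zpowers_le.mpr hy.1) (zpowers_le.mpr hyb) (mem_zpowers y)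
    obtain ⟨o, ho, h, hh, rfl⟩ := (hθ b hb hb1).cover y hy'
    exact mul_mem
      (mem_sup_left (le_iSup (fun b : {b : X // b ∈ B ∧ b ≠ 1} => θ b) ⟨b, hb, hb1⟩ ho))
      (mem_sup_right ⟨hh.1, centralizer_le (SetLike.coe_subset_coe.mpr (le_sup_left : U ≤ U ⊔ zpowers b)) hh.2⟩)

end Ctx

/-- If in addition some elementary abelian group of order `9` of `H` has all its centralizers in
`H`, then `H` is everything. -/
theorem engine (A H : Subgroup X)
    (hA : Cfsg.IsElementaryAbelian 2 A) (hH : H = Subgroup.normalizer (A : Set X))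
    (hsc : ∀ a ∈ A, ∀ x : X, x * a * x⁻¹ ∈ H → x * a * x⁻¹ ∈ A)
    (hcent : Subgroup.centralizer (A : Set X) ⊓ H ≤ A)
    (E : Subgroup X) (_hEH : E ≤ H) (hE : Cfsg.IsElementaryAbelian 3 E) (hE9 : Nat.card E = 9)
    (hEc : ∀ e ∈ E, e ≠ 1 → Subgroup.centralizer ({e} : Set X) ≤ H)
    (hsmall : ∀ U ≤ A, Nat.card A ≤ 2 ^ 5 * Nat.card U →
      H ⊓ Subgroup.centralizer (U : Set X) ≤ A)
    (hbig : ∀ U ≤ A, 2 ^ 5 * Nat.card U < Nat.card A → ∃ v ∈ A, ∃ w ∈ A, v ∉ U ∧ w ∉ U ∧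
      ∀ h ∈ H ⊓ Subgroup.centralizer (U : Set X), h * v * h⁻¹ * w⁻¹ ∉ U) :
    H = ⊤ := by
  have c : Ctx A H := ⟨hA, hH, hsc, hcent⟩
  haveI : Fact (Nat.Prime 3) := ⟨Nat.prime_three⟩
  obtain ⟨O, hO⟩ := c.exists_good hsmall hbig ⊥ bot_le
  have hC : ∀ x : X, x ∈ centralizer ((⊥ : Subgroup X) : Set X) := fun x =>
    mem_centralizer_iff.mpr fun y hy => by
      rw [SetLike.mem_coe, mem_bot] at hy
      rw [hy, one_mul, mul_one]
  have hn : ∀ x : X, x ∈ normalizer (O : Set X) := fun x => hO.norm (hC x)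
  have hOH : O ⊓ H = ⊥ := c.inf_eq_bot hO.odd fun a _ => hn a
  have hEp : IsPGroup 3 E := fun e => ⟨1, Subtype.ext (by simpa using hE.2 e e.2)⟩
  haveI := hE.1
  obtain ⟨e₀, he₀⟩ : ∃ e : E, e ≠ 1 := by
    haveI : Nontrivial E := Finite.one_lt_card_iff_nontrivial.mp (by rw [hE9]; norm_num)
    exact exists_ne 1
  letI act : MulAction E O :=
    { smul := fun e o => ⟨(e : X) * o * (e : X)⁻¹, (mem_normalizer_iff.mp (hn _) _).mp o.2⟩
      one_smul := fun o => Subtype.ext (by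
        show ((1 : E) : X) * o * ((1 : E) : X)⁻¹ = o
        simp)
      mul_smul := fun e f o => Subtype.ext (by
        show ((e * f : E) : X) * o * ((e * f : E) : X)⁻¹
          = (e : X) * ((f : X) * o * (f : X)⁻¹) * (e : X)⁻¹
        simp [mul_assoc]) }
  have hfix : ∀ o ∈ MulAction.fixedPoints E O, o = (1 : O) := by
    intro o ho
    have h1 : (e₀ : X) * o * (e₀ : X)⁻¹ = o := congrArg Subtype.val (ho e₀)
    have h2 : (o : X) ∈ O ⊓ H := by
      refine ⟨o.2, hEc e₀ e₀.2 (fun h => he₀ (Subtype.ext h)) ?_⟩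
      exact mem_centralizer_singleton_iff.mpr (mul_inv_eq_iff_eq_mul.mp h1).symm
    rw [hOH, mem_bot] at h2
    exact Subtype.ext h2
  have hcard : Nat.card (MulAction.fixedPoints E O) = 1 := by
    rw [Nat.card_eq_one_iff_unique]
    refine ⟨⟨fun a b => Subtype.ext ((hfix _ a.2).trans (hfix _ b.2).symm)⟩, ⟨⟨1, fun e => ?_⟩⟩⟩
    exact Subtype.ext (show (e : X) * 1 * (e : X)⁻¹ = 1 by simp)
  have hmod := hEp.card_modEq_card_fixedPoints O
  rw [hcard] at hmod
  have hcop : (Nat.card O).Coprime 3 := by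
    refine ((Nat.prime_three.coprime_iff_not_dvd).mpr fun h => ?_).symm
    have := Nat.ModEq.symm hmod
    rw [Nat.ModEq, Nat.mod_eq_zero_of_dvd h] at this
    norm_num at this
  have hnc : ¬ IsCyclic E := by
    intro hc
    obtain ⟨g, hg⟩ := hc.exists_generator
    have h1 : orderOf g = 9 := by rw [orderOf_eq_card_of_forall_mem_zpowers hg, hE9]
    have h2 : g ^ 3 = 1 := Subtype.ext (by simpa using hE.2 g g.2)
    have := orderOf_dvd_of_pow_eq_one h2
    rw [h1] at this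
    norm_num at this
  have hOle : O ≤ H := H79.le_of_centralizers_le (p := 3) (fun e he => hE.2 e he) hnc
    (fun x _ => hn x) hcop fun x hx hx1 => inf_le_right.trans (hEc x hx hx1)
  rw [eq_top_iff]
  intro x _
  obtain ⟨o, ho, h, hh, rfl⟩ := hO.cover x (hC x)
  exact mul_mem (hOle ho) hh.1

end H28.U6M
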