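/-
Centralisers of subgroups of small and of large index in the twenty-dimensional module (helper28).
-/
import Cfsg.Agent.H61.U6M.Setup
import Cfsg.Agent.H18.S3338.Bound
import Cfsg.Agent.H82.SylowIn

set_option autoImplicit false
set_option maxHeartbeats 200000
set_option linter.style.haveILetI false
set_option linter.unusedSectionVars false

open Cfsg H61.U6M

namespace H28.U6M

variable {X : Type*} [Group X] [Finite X] {A H : Subgroup X} [IsMulCommutative A] (S : Sit A H)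

include S

/-- Elements of prime order of the complement fix at most `2 ^ 14` elements of the module. -/
theorem fixed_card
    (hinvol : ∀ k ∈ S.L, k * k = 1 → k ≠ 1 → Nat.card {a : ↥A // k * (a : X) * k⁻¹ = a} ≤ 2 ^ 14)
    {k : X} (hk : k ∈ S.L) {p : ℕ} (hp : p.Prime) (hkp : orderOf k = p) :
    Nat.card {a : ↥A // k * (a : X) * k⁻¹ = a} ≤ 2 ^ 14 ∧
      (p = 3 → Nat.card {a : ↥A // k * (a : X) * k⁻¹ = a} ≤ 2 ^ 13) := by
  have hk1 : k ≠ 1 := fun h => hp.ne_one (by rw [← hkp, h, orderOf_one])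
  rcases eq_or_ne p 2 with rfl | hp2
  · refine ⟨hinvol k hk ?_ hk1, fun h => absurd h (by norm_num)⟩
    rw [← sq, ← hkp, pow_orderOf_eq_one]
  obtain ⟨s, hs⟩ := hp.odd_of_ne_two hp2
  have hkr : k ∈ S.η.range := by
    have h : (k * k) ^ (s + 1) = k := by
      rw [← sq, ← pow_mul, show 2 * (s + 1) = p + 1 by omega, pow_succ, ← hkp,
        pow_orderOf_eq_one, one_mul]
    rw [← h]
    exact pow_mem (S.sq k hk) _
  obtain ⟨q, rfl⟩ := hkr
  obtain ⟨g, rfl⟩ := QuotientGroup.mk_surjective q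
  rw [orderOf_injective S.η S.inj] at hkp
  have h := H18.U6M.fix_bound S.ctx g p hp hp2 hkp
  have e : Nat.card {v : Additive ↥A // S.ctx.act g v = v} =
      Nat.card {a : ↥A // S.η (QuotientGroup.mk g) * (a : X) * (S.η (QuotientGroup.mk g))⁻¹ = a} :=
    Nat.card_congr (Equiv.subtypeEquiv Additive.toMul fun v => by
      rw [← Additive.toMul.injective.eq_iff, Subtype.ext_iff, S.ctx_act]
      rfl)
  rw [e] at h
  exact h

/-- The complement part of an element centralising part of the module centralises it too. -/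
theorem split_cent {U : Subgroup X} (hU : U ≤ A) {a k h : X} (ha : a ∈ A) (he : a * k = h)
    (hh : h ∈ Subgroup.centralizer (U : Set X)) :
    ∀ u ∈ U, k * u * k⁻¹ = u := by
  intro u hu
  have h1 : u * h = h * u := Subgroup.mem_centralizer_iff.1 hh u hu
  have h2 : a * u = u * a := congrArg Subtype.val (mul_comm (⟨a, ha⟩ : A) ⟨u, hU hu⟩)
  rw [mul_inv_eq_iff_eq_mul]
  refine mul_left_cancel (a := a) ?_
  rw [← mul_assoc, he, ← h1, ← mul_assoc, h2, mul_assoc, he]

omit S in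
theorem card_le_fixed {U : Subgroup X} (hU : U ≤ A) {k : X} (hk : ∀ u ∈ U, k * u * k⁻¹ = u) :
    Nat.card U ≤ Nat.card {a : ↥A // k * (a : X) * k⁻¹ = a} :=
  Nat.card_le_card_of_injective (fun u : U => (⟨⟨u.1, hU u.2⟩, hk u.1 u.2⟩ :
    {a : ↥A // k * (a : X) * k⁻¹ = a}))
    fun _ _ e => Subtype.ext (congrArg (fun x => ((x.1 : ↥A) : X)) e)

theorem card_H : Nat.card H = Nat.card A * Nat.card S.L := by
  rw [← Nat.card_prod]
  refine (Nat.card_congr (Equiv.ofBijective
    (fun x : A × S.L => (⟨x.1.1 * x.2.1, mul_mem (S.le x.1.2) (S.le_H x.2.2)⟩ : H)) ⟨?_, ?_⟩)).symm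
  · rintro ⟨⟨a, ha⟩, ⟨k, hk⟩⟩ ⟨⟨a', ha'⟩, ⟨k', hk'⟩⟩ e
    have e' : a * k = a' * k' := congrArg Subtype.val e
    have h : a'⁻¹ * a ∈ A ⊓ S.L := Subgroup.mem_inf.2 ⟨mul_mem (inv_mem ha') ha, by
      have : a'⁻¹ * a = k' * k⁻¹ := by
        rw [eq_mul_inv_iff_mul_eq, mul_assoc, e', inv_mul_cancel_left]
      rw [this]
      exact mul_mem hk' (inv_mem hk)⟩
    rw [S.meet, Subgroup.mem_bot, inv_mul_eq_one] at h
    subst h
    have h' := mul_left_cancel e'
    subst h'
    rfl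
  · rintro ⟨h, hh⟩
    obtain ⟨a, ha, k, hk, e⟩ := S.exists_split hh
    exact ⟨⟨⟨a, ha⟩, ⟨k, hk⟩⟩, Subtype.ext e⟩

theorem exists_card_L : ∃ i, Nat.card S.L = 2 ^ i * (2 ^ 15 * 280665) := by
  have hle : S.η.range ≤ S.L := by
    rintro _ ⟨q, rfl⟩
    exact S.mem q
  haveI : (S.η.range.subgroupOf S.L).Normal := ⟨fun n hn g => by
    obtain ⟨q, hq⟩ := Subgroup.mem_subgroupOf.1 hn
    rw [Subgroup.mem_subgroupOf, Subgroup.coe_mul, Subgroup.coe_mul, Subgroup.coe_inv, ← hq]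
    exact S.norm g g.2 q⟩
  haveI : Fact (Nat.Prime 2) := ⟨Nat.prime_two⟩
  have hp : IsPGroup 2 (S.L ⧸ S.η.range.subgroupOf S.L) := fun x => ⟨1, by
    obtain ⟨k, rfl⟩ := QuotientGroup.mk_surjective x
    rw [pow_one, sq, ← QuotientGroup.mk_mul, QuotientGroup.eq_one_iff, Subgroup.mem_subgroupOf]
    exact S.sq k k.2⟩
  obtain ⟨i, hi⟩ := IsPGroup.iff_card.1 hp
  refine ⟨i, ?_⟩
  rw [Subgroup.card_eq_card_quotient_mul_card_subgroup (S.η.range.subgroupOf S.L), hi,
    Nat.card_congr (Subgroup.subgroupOfEquivOfLe hle).toEquiv,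
    ← Nat.card_congr (MonoidHom.ofInjective S.inj).toEquiv, H72.U6R.card_psu hK]

omit S in
theorem no_mersenne : ∀ n : Fin 21, 7 ≤ (n : ℕ) → ¬ 2 ^ (n : ℕ) - 1 ∣ 280665 := by decide +kernel

/-- If all cosets outside `U` are fused, their number divides the order of the fusing group. -/
theorem pred_dvd {U G : Subgroup X} (hU : U ≤ A) (hGH : G ≤ H)
    (hGU : G ≤ Subgroup.centralizer (U : Set X)) (hlt : U ≠ A)
    (htr : ∀ v ∈ A, ∀ w ∈ A, v ∉ U → w ∉ U → ∃ h ∈ G, h * v * h⁻¹ * w⁻¹ ∈ U) :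
    Nat.card (↥A ⧸ U.subgroupOf A) - 1 ∣ Nat.card G := by
  classical
  let U' : Subgroup ↥A := U.subgroupOf A
  let f : G → (↥A →* ↥A) := fun g => MonoidHom.mk'
    (fun a => ⟨(g : X) * a * (g : X)⁻¹, S.conj_mem (hGH g.2) a.2⟩)
    (fun a b => Subtype.ext (by simp [mul_assoc]))
  have hf : ∀ g : G, U' ≤ U'.comap (f g) := fun g a ha => by
    have h := Subgroup.mem_centralizer_iff.1 (hGU g.2) (a : X) ha
    show (g : X) * a * (g : X)⁻¹ ∈ U
    rw [← h, mul_inv_cancel_right]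
    exact ha
  letI act : MulAction G (↥A ⧸ U') :=
    { smul := fun g q => QuotientGroup.map U' U' (f g) (hf g) q
      one_smul := fun q => QuotientGroup.induction_on q fun a => by
        show ((f 1 a : ↥A) : ↥A ⧸ U') = a
        rw [show f 1 a = a from Subtype.ext (by simp [f])]
      mul_smul := fun g h q => QuotientGroup.induction_on q fun a => by
        show ((f (g * h) a : ↥A) : ↥A ⧸ U') = (f g (f h a) : ↥A)
        rw [show f (g * h) a = f g (f h a) from Subtype.ext (by simp [f, mul_assoc])] }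
  obtain ⟨v, hvA, hvU⟩ := SetLike.exists_of_lt (lt_of_le_of_ne hU hlt)
  have horb : MulAction.orbit G ((⟨v, hvA⟩ : ↥A) : ↥A ⧸ U') = {(1 : ↥A ⧸ U')}ᶜ := by
    ext q
    constructor
    · rintro ⟨g, rfl⟩ h
      have h' : (g : X) * v * (g : X)⁻¹ ∈ U :=
        (QuotientGroup.eq_one_iff (N := U') (f g ⟨v, hvA⟩)).1 h
      have h2 := Subgroup.mem_centralizer_iff.1 (hGU g.2) _ h'
      rw [inv_mul_cancel_right] at h2
      refine hvU ?_
      have h3 : v = (g : X) * v * (g : X)⁻¹ := mul_left_cancel h2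
      rwa [← h3] at h'
    · intro hq
      obtain ⟨⟨w, hwA⟩, rfl⟩ := QuotientGroup.mk_surjective q
      have hwU : w ∉ U := fun h => hq (Set.mem_singleton_iff.2
        ((QuotientGroup.eq_one_iff _).2 (Subgroup.mem_subgroupOf.2 h)))
      obtain ⟨g, hg, h⟩ := htr v hvA w hwA hvU hwU
      refine ⟨⟨g, hg⟩, ?_⟩
      show ((f ⟨g, hg⟩ ⟨v, hvA⟩ : ↥A) : ↥A ⧸ U') = ((⟨w, hwA⟩ : ↥A) : ↥A ⧸ U')
      rw [← div_eq_one, ← QuotientGroup.mk_div, QuotientGroup.eq_one_iff, Subgroup.mem_subgroupOf]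
      rw [div_eq_mul_inv]
      exact h
  have h := MulAction.index_stabilizer (G := G) ((⟨v, hvA⟩ : ↥A) : ↥A ⧸ U')
  rw [horb, Set.ncard_compl, Set.ncard_singleton] at h
  rw [← h]
  exact Subgroup.index_dvd_card _

theorem small_big
    (hinvol : ∀ k ∈ S.L, k * k = 1 → k ≠ 1 → Nat.card {a : ↥A // k * (a : X) * k⁻¹ = a} ≤ 2 ^ 14) :
    (∀ U ≤ A, Nat.card A ≤ 2 ^ 5 * Nat.card U → H ⊓ Subgroup.centralizer (U : Set X) ≤ A) ∧
    (∀ U ≤ A, 2 ^ 5 * Nat.card U < Nat.card A → ∃ v ∈ A, ∃ w ∈ A, v ∉ U ∧ w ∉ U ∧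
      ∀ h ∈ H ⊓ Subgroup.centralizer (U : Set X), h * v * h⁻¹ * w⁻¹ ∉ U) := by
  constructor
  · intro U hU hcard h hh
    obtain ⟨a, ha, k, hk, e⟩ := S.exists_split hh.1
    have hc := split_cent S hU ha e hh.2
    suffices k = 1 by rw [← e, this, mul_one]; exact ha
    by_contra hk1
    obtain ⟨p, hp, hpk⟩ := Nat.exists_prime_and_dvd (n := orderOf k)
      (fun h => hk1 (orderOf_eq_one_iff.1 h))
    set k' := k ^ (orderOf k / p) with hk'
    have ho : orderOf k' = p := orderOf_pow_orderOf_div (orderOf_pos k).ne' hpk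
    have hfix : ∀ u ∈ U, k' * u * k'⁻¹ = u := fun u hu => by
      have : Commute k u := mul_inv_eq_iff_eq_mul.1 (hc u hu)
      rw [(this.pow_left _).eq, mul_inv_cancel_right]
    have := (card_le_fixed hU hfix).trans (fixed_card S hinvol (pow_mem hk _) hp ho).1
    rw [S.cardA] at hcard
    omega
  · intro U hU hlt
    by_contra hcon
    push Not at hcon
    set G := H ⊓ Subgroup.centralizer (U : Set X) with hG
    have hdvd := Subgroup.card_dvd_of_le hU
    rw [S.cardA] at hdvd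
    obtain ⟨j, hj, hUj⟩ := (Nat.dvd_prime_pow Nat.prime_two).1 hdvd
    rw [S.cardA, hUj, ← pow_add] at hlt
    have hj14 : 5 + j < 20 := (Nat.pow_lt_pow_iff_right (by norm_num)).1 hlt
    have hne : U ≠ A := fun h => by
      rw [h, S.cardA] at hUj
      have := Nat.pow_right_injective le_rfl hUj
      omega
    have hquot : Nat.card (↥A ⧸ U.subgroupOf A) = 2 ^ (20 - j) := by
      have h := Subgroup.card_eq_card_quotient_mul_card_subgroup (U.subgroupOf A)
      rw [S.cardA, Nat.card_congr (Subgroup.subgroupOfEquivOfLe hU).toEquiv, hUj] at h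
      refine Nat.eq_of_mul_eq_mul_right (show 0 < 2 ^ j by positivity) ?_
      rw [← h, ← pow_add, Nat.sub_add_cancel (by omega)]
    have hd := pred_dvd S hU (G := G) inf_le_left inf_le_right hne hcon
    rw [hquot] at hd
    obtain ⟨i, hi⟩ := exists_card_L S
    have hd' : 2 ^ (20 - j) - 1 ∣ 280665 := by
      have h1 := hd.trans (Subgroup.card_dvd_of_le (inf_le_left : G ≤ H))
      rw [card_H S, S.cardA, hi, ← mul_assoc, ← mul_assoc, ← pow_add, ← pow_add] at h1
      refine Nat.Coprime.dvd_of_dvd_mul_left ?_ h1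
      refine (Nat.Coprime.pow_left _ ((Nat.Prime.coprime_iff_not_dvd Nat.prime_two).2 ?_)).symm
      have : 2 ∣ 2 ^ (20 - j) := dvd_pow_self 2 (by omega)
      have : 0 < 2 ^ (20 - j) := by positivity
      omega
    have hn6 : 20 - j = 6 := by
      by_contra hne6
      exact no_mersenne ⟨20 - j, by omega⟩ (show 7 ≤ 20 - j by omega) hd'
    haveI : Fact (Nat.Prime 3) := ⟨Nat.prime_three⟩
    obtain ⟨h, hh3⟩ := exists_prime_orderOf_dvd_card' 3 (dvd_trans (by norm_num) (hn6 ▸ hd) :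
      3 ∣ Nat.card G)
    have h3 : orderOf (h : X) = 3 := by rw [Subgroup.orderOf_coe, hh3]
    obtain ⟨a, ha, k, hk, e⟩ := S.exists_split h.2.1
    have hc := split_cent S hU ha e h.2.2
    have hk3 : k ^ 3 = 1 := by
      have e3 : (a * k) ^ 3 = a * (k * a * k⁻¹) * (k * k * a * (k * k)⁻¹) * k ^ 3 := by
        simp only [pow_succ, pow_zero, one_mul]
        group
      rw [e, ← h3, pow_orderOf_eq_one, h3] at e3
      have hmem : k ^ 3 ∈ A ⊓ S.L := by
        refine Subgroup.mem_inf.2 ⟨?_, pow_mem hk 3⟩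
        rw [eq_comm, ← eq_inv_mul_iff_mul_eq, mul_one] at e3
        rw [e3]
        exact inv_mem (mul_mem (mul_mem ha (S.conj_mem (S.le_H hk) ha))
          (S.conj_mem (mul_mem (S.le_H hk) (S.le_H hk)) ha))
      rwa [S.meet, Subgroup.mem_bot] at hmem
    have hk1 : k ≠ 1 := by
      intro h1
      rw [h1, mul_one] at e
      have := orderOf_dvd_of_pow_eq_one (S.elem.2 a ha)
      rw [e, h3] at this
      norm_num at this
    have := (card_le_fixed hU hc).trans
      ((fixed_card S hinvol hk Nat.prime_three (orderOf_eq_prime hk3 hk1)).2 rfl)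
    rw [hUj] at this
    have := (Nat.pow_le_pow_iff_right (by norm_num)).1 this
    omega

end H28.U6M
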